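import Mathlib
import Cfsg.Agent.Lib.Comput.Check3
import Cfsg.Agent.Lib.LieModel.A6.P.Data

/-! generated by tools/cgt -/

set_option autoImplicit false
set_option maxRecDepth 100000
set_option Elab.async false

namespace CfsgLib.LieModel.A6.P

open CfsgLib.Comput

def R3_0 : RepC := ⟨12, 1, [],
  []⟩
def R3_1 : RepC := ⟨13, 1, [],
  []⟩
def S3_0 : GenC := ⟨13, [],
  [(0, 0, 0, 2, 0), (0, 1, 0, 0, 0), (0, 2, 0, 1, 0)], 0⟩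
def L3 : Level := ⟨0x0, 0x1800, [], 1, 3, 0, 3, [R3_0, R3_1], [S3_0]⟩
def X3 : Ext := [(11, 13, 0)]

def R2_0 : RepC := ⟨10, 3, [],
  []⟩
def S2_0 : GenC := ⟨11, [],
  [(0, 0, 12, 1, 12), (0, 1, 0, 0, 0), (12, 1, 0, 1, 13), (13, 1, 13, 1, 12)], 0⟩
def L2 : Level := ⟨0x1800, 0x1f80, [13], 3, 2, 0, 4, [R2_0], [S2_0]⟩
def X2 : Ext := [(9, 11, 0), (7, 0, 13), (8, 8, 0)]

def R1_0 : RepC := ⟨7, 4, [(13, 11)],
  [(3, 2, [1])]⟩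
def S1_0 : GenC := ⟨5, [(0xb0c, 0xc0b0d)],
  [(0, 0, 10, 1, 13), (10, 1, 0, 0, 12), (0, 1, 11, 1, 0xc0b)], 2⟩
def L1 : Level := ⟨0x1f80, 0x1ff0, [11, 13], 12, 1, 0, 5, [R1_0], [S1_0]⟩
def X1 : Ext := [(5, 0, 0xd050a), (6, 6, 0)]

def R0_0 : RepC := ⟨1, 5, [(0xb0c, 0x50b0d), (0xb0d, 0x50c0b0d)],
  [(3, 2, [1, 2]), (5, 2, [1])]⟩
def S0_0 : GenC := ⟨2, [(11, 0x50a), (12, 0xa0d)],
  [(0, 0, 0xc05, 1, 0xc050b0d), (0, 1, 0, 0, 0), (5, 1, 7, 1, 0xb0d)], 2⟩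
def L0 : Level := ⟨0x1ff0, 0x1fff, [5, 11, 13], 60, 0, 0, 6, [R0_0], [S0_0]⟩
def X0 : Ext := [(0, 2, 0), (2, 0, 12), (3, 3, 0)]

def top : List ℕ := [1, 3]
def gs : List ℕ := [2, 5, 11, 13]
def XD : Ext := [(1, 1, 0), (3, 3, 0), (4, 0, 0x10103010302), (5, 0, 0x1030202), (6, 6, 0), (7, 0, 0x5060606), (8, 8, 0), (9, 0, 0x506060506), (10, 10, 0), (11, 0, 0xa090a08), (12, 12, 0)]
def MX : Level.MaxC := [[(0xc05, [0xc050b0d])]]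

/-- all the equations of the certificate -/
structure Eqs {G : Type*} [Group G] (g : ℕ → G) : Prop where
  l3 : AllHold g L3.eqns
  x3 : AllHold g X3.eqns
  l2 : AllHold g L2.eqns
  x2 : AllHold g X2.eqns
  l1 : AllHold g L1.eqns
  x1 : AllHold g X1.eqns
  l0 : AllHold g L0.eqns
  x0 : AllHold g X0.eqns
  xd : AllHold g XD.eqns
  mx : AllHold g (L0.maxEqns MX)

end CfsgLib.LieModel.A6.P
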